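import Mathlib.RingTheory.Kaehler.Basic
import Mathlib.LinearAlgebra.Matrix.Determinant.Basic
import Mathlib.Algebra.CharP.Basic
import Mathlib.Algebra.CharP.Invertible
import Mathlib.Data.Nat.Choose.Dvd
import Mathlib.Data.Nat.Choose.Sum
import Mathlib.LinearAlgebra.Basis.Basic
import Mathlib.RingTheory.Derivation.Lie

/-!
# Determinants of `diag(t_i^{p-1}) + Jacobian` in characteristic `p`
-/

namespace GrothLib.PCurv

universe u v

open Finset

section Piola

variable {A : Type v} [CommRing A] {R : Type u} [CommRing R] [Algebra R A] {n : ℕ}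
  (D : Fin n → Derivation R A A)

theorem derivation_prod (D : Derivation R A A) {ι : Type*} [DecidableEq ι] (s : Finset ι) (g : ι → A) :
    D (∏ i ∈ s, g i) = ∑ a ∈ s, (∏ i ∈ s.erase a, g i) * D (g a) := by
  induction s using Finset.induction with
  | empty => simp
  | @insert b s hb ih =>
    rw [prod_insert hb, D.leibniz, ih, sum_insert hb, erase_insert hb, smul_eq_mul, smul_eq_mul, mul_sum, add_comm]
    refine congrArg₂ _ rfl (sum_congr rfl fun a ha => ?_)
    have hab : a ≠ b := fun h => hb (h ▸ ha)
    rw [erase_insert_of_ne hab.symm, prod_insert (fun h => hb (mem_of_mem_erase h))]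
    ring

/-- If all rows but the `a`-th are closed and the `a`-th is a gradient, the determinant is a divergence. -/
theorem det_gradient (M : Matrix (Fin n) (Fin n) A) (a : Fin n) (f : A)
    (hrow : ∀ j, M a j = D j f) (hclosed : ∀ i, i ≠ a → ∀ j l, D j (M i l) = D l (M i j)) :
    M.det = ∑ σ : Equiv.Perm (Fin n),
      (Equiv.Perm.sign σ : ℤ) • D (σ a) (f * ∏ i ∈ univ.erase a, M i (σ i)) := by
  classical
  rw [← Matrix.det_transpose, Matrix.det_apply']
  simp only [Matrix.transpose_apply, Derivation.leibniz, smul_eq_mul, smul_add, sum_add_distrib]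
  have hzero : ∑ σ : Equiv.Perm (Fin n),
      (Equiv.Perm.sign σ : ℤ) • (f * D (σ a) (∏ i ∈ univ.erase a, M i (σ i))) = 0 := by
    simp only [derivation_prod, mul_sum, smul_sum]
    rw [sum_comm]
    refine sum_eq_zero fun c hc => ?_
    have hca : c ≠ a := ne_of_mem_erase hc
    refine sum_involution (fun σ _ => σ * Equiv.swap a c) (fun σ _ => ?_) (fun σ _ _ h => ?_)
      (fun σ _ => mem_univ _) (fun σ _ => by simp [mul_assoc])
    · have hp : ∏ i ∈ (univ.erase a).erase c, M i ((σ * Equiv.swap a c) i) =
          ∏ i ∈ (univ.erase a).erase c, M i (σ i) := prod_congr rfl fun i hi => by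
        rw [Equiv.Perm.mul_apply, Equiv.swap_apply_of_ne_of_ne (ne_of_mem_erase (mem_of_mem_erase hi))
          (ne_of_mem_erase hi)]
      rw [hp]
      simp only [Equiv.Perm.mul_apply, Equiv.swap_apply_left, Equiv.swap_apply_right,
        map_mul, Equiv.Perm.sign_swap hca.symm, hclosed c hca (σ c) (σ a)]
      simp
    · have := congrArg (fun τ : Equiv.Perm (Fin n) => τ a) h
      simp only [Equiv.Perm.mul_apply, Equiv.swap_apply_left, EmbeddingLike.apply_eq_iff_eq] at this
      exact hca this
  rw [hzero, zero_add]
  refine sum_congr rfl fun σ _ => ?_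
  rw [zsmul_eq_mul, ← hrow, ← mul_prod_erase univ _ (mem_univ a)]
  ring

end Piola

variable {k : Type u} [CommRing k] {A : Type v} [CommRing A] [Algebra k A] {n : ℕ}
  (t : Fin n → A) (b : Module.Basis (Fin n) A (KaehlerDifferential k A))

/-- The partial derivatives attached to a basis `dt_i`. -/
noncomputable def pd (j : Fin n) : Derivation k A A := (b.coord j).compDer (KaehlerDifferential.D k A)

theorem pd_apply (j : Fin n) (f : A) : pd b j f = b.coord j (KaehlerDifferential.D k A f) := rfl

variable {t} (hb : ∀ i, b i = KaehlerDifferential.D k A (t i))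
include hb

theorem pd_self (i j : Fin n) : pd b j (t i) = if i = j then 1 else 0 := by
  rw [pd_apply, ← hb, Module.Basis.coord_apply, b.repr_self, Finsupp.single_apply]

theorem derivation_ext (E E' : Derivation k A A) (h : ∀ i, E (t i) = E' (t i)) : E = E' := by
  have : E.liftKaehlerDifferential = E'.liftKaehlerDifferential := b.ext fun i => by
    rw [hb, Derivation.liftKaehlerDifferential_comp_D, Derivation.liftKaehlerDifferential_comp_D, h]
  exact Derivation.ext fun x => by
    rw [← E.liftKaehlerDifferential_comp_D, this, E'.liftKaehlerDifferential_comp_D]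

theorem pd_comm (i j : Fin n) (f : A) : pd b i (pd b j f) = pd b j (pd b i f) := by
  have h : ⁅pd b i, pd b j⁆ = 0 := derivation_ext b hb _ _ fun l => by
    rw [Derivation.commutator_apply, pd_self b hb, pd_self b hb]
    split_ifs <;> simp
  have := DFunLike.congr_fun h f
  rw [Derivation.commutator_apply, Derivation.zero_apply, sub_eq_zero] at this
  exact this

theorem iterate_pd_pow (j : Fin n) (c : A) (hc : pd b j c = 0) (q : ℕ) : ∀ m,
    (pd b j : A → A)^[m] (c * t j ^ q) = (q.descFactorial m : A) * (c * t j ^ (q - m)) := by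
  intro m
  induction m with
  | zero => simp
  | succ m ih =>
    rw [Function.iterate_succ_apply', ih, Nat.descFactorial_succ, Derivation.leibniz, Derivation.leibniz,
      Derivation.leibniz_pow, Derivation.map_natCast, hc, pd_self b hb, if_pos rfl, Nat.sub_sub]
    push_cast
    simp only [smul_eq_mul, nsmul_eq_mul, mul_one]
    ring

/-- `D_j^p = 0`. -/
theorem iterate_pd_eq_zero (p : ℕ) [Fact p.Prime] [CharP A p] (j : Fin n) (f : A) :
    (pd b j : A → A)^[p] f = 0 := by
  classical
  set L : Module.End k A := (pd b j).toLinearMap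
  have hL : ∀ m x, (L ^ m) x = (pd b j : A → A)^[m] x := fun m x => Module.End.pow_apply L m x
  have hleib : ∀ (m : ℕ) (x y : A), (L ^ m) (x * y) =
      ∑ i ∈ range (m + 1), (m.choose i : A) * ((L ^ i) x * (L ^ (m - i)) y) := by
    intro m
    induction m with
    | zero => simp
    | succ m ih =>
      intro x y
      rw [sum_choose_succ_mul (fun i l => (L ^ i) x * (L ^ l) y) m, ← sum_add_distrib, pow_succ',
        Module.End.mul_apply, ih, map_sum]
      refine sum_congr rfl fun i hi => ?_
      rw [Nat.succ_sub (Nat.lt_succ_iff.1 (mem_range.1 hi)), pow_succ' L (m - i), pow_succ' L i,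
        Module.End.mul_apply, Module.End.mul_apply]
      change pd b j (_ * (_ * _)) = _
      rw [Derivation.leibniz, Derivation.leibniz, Derivation.map_natCast]
      simp only [smul_eq_mul, mul_zero, add_zero, L, Derivation.coeFn_coe]
      ring
  have hp := (Fact.out : p.Prime)
  have hmul : ∀ x y, (L ^ p) (x * y) = x • (L ^ p) y + y • (L ^ p) x := fun x y => by
    rw [hleib, sum_range_succ, sum_eq_single 0 (fun i hi hi0 => ?_) (by simp [hp.ne_zero])]
    · simp [smul_eq_mul, mul_comm y]
    · rw [(CharP.cast_eq_zero_iff A p _).2 (Nat.Prime.dvd_choose_self hp hi0 (mem_range.1 hi)), zero_mul]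
  let E : Derivation k A A := Derivation.mk' (L ^ p) hmul
  have hE : E = 0 := derivation_ext b hb _ _ fun l => by
    change (L ^ p) (t l) = 0
    obtain ⟨q, hq⟩ := Nat.exists_eq_add_of_le hp.two_le
    rw [hL, hq, add_comm 2 q, Function.iterate_add_apply, Function.iterate_succ_apply, Function.iterate_one,
      pd_self b hb]
    have : pd b j (if l = j then (1 : A) else 0) = 0 := by split_ifs <;> simp
    rw [this]
    exact iterate_map_zero _ _
  rw [← hL]
  exact DFunLike.congr_fun hE f

/-- The product over `s` of the operators `D_j^{p-1}`. -/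
theorem det_add_jacobian_ne_zero (p : ℕ) [Fact p.Prime] [CharP A p] [Nontrivial A] (f : Fin n → A) :
    (Matrix.of fun i j : Fin n => (if i = j then t i ^ (p - 1) else 0) + pd b j (f i)).det ≠ 0 := by
  classical
  have hcomm : ∀ i j : Fin n, Commute (pd b i).toLinearMap (pd b j).toLinearMap := fun i j =>
    LinearMap.ext fun x => pd_comm b hb i j x
  let op : Finset (Fin n) → Module.End k A := fun s =>
    s.noncommProd (fun j => (pd b j).toLinearMap ^ (p - 1)) (fun i _ j _ _ => (hcomm i j).pow_pow _ _)
  have hp1 : p - 1 + 1 = p := Nat.succ_pred_eq_of_pos (Fact.out : p.Prime).pos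
  have hdiv : ∀ j h, op univ (pd b j h) = 0 := by
    intro j h
    have : op univ = op (univ.erase j) * (pd b j).toLinearMap ^ (p - 1) :=
      (noncommProd_erase_mul univ (mem_univ j) _ _).symm
    rw [this]
    change op _ (((pd b j).toLinearMap ^ (p - 1)) ((pd b j).toLinearMap h)) = 0
    rw [← Module.End.mul_apply ((pd b j).toLinearMap ^ (p - 1)), ← pow_succ, hp1, Module.End.pow_apply]
    exact (congrArg _ (iterate_pd_eq_zero b hb p j h)).trans (map_zero _)
  have hdiag : ∀ s : Finset (Fin n), op s (∏ i, t i ^ (p - 1)) =
      ((p - 1).factorial : A) ^ s.card * ∏ i ∈ sᶜ, t i ^ (p - 1) := by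
    intro s
    induction s using Finset.induction with
    | empty => simp [op]
    | @insert a s ha ih =>
      simp only [op]
      rw [noncommProd_insert_of_notMem _ _ _ _ ha, Module.End.mul_apply]
      refine (congrArg _ ih).trans ?_
      have hsplit : ∏ i ∈ sᶜ, t i ^ (p - 1) = (∏ i ∈ (insert a s)ᶜ, t i ^ (p - 1)) * t a ^ (p - 1) := by
        rw [compl_insert, prod_erase_mul _ _ (by simpa using ha)]
      have hc : pd b a (((p - 1).factorial : A) ^ s.card * ∏ i ∈ (insert a s)ᶜ, t i ^ (p - 1)) = 0 := by
        rw [Derivation.leibniz, Derivation.leibniz_pow, Derivation.map_natCast, derivation_prod,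
          sum_eq_zero fun i hi => ?_]
        · simp
        · rw [Derivation.leibniz_pow, pd_self b hb, if_neg (fun h => by simp [h] at hi)]
          simp
      rw [hsplit, ← mul_assoc, Module.End.pow_apply]
      refine (iterate_pd_pow b hb a _ hc (p - 1) (p - 1)).trans ?_
      rw [Nat.descFactorial_self, Nat.sub_self, pow_zero, mul_one, card_insert_of_notMem ha, pow_succ]
      ring
  let M : Finset (Fin n) → Matrix (Fin n) (Fin n) A := fun s =>
    Matrix.of fun i j => (if i = j then t i ^ (p - 1) else 0) + if i ∈ s then pd b j (f i) else 0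
  have hkey : ∀ s, op univ (M s).det = ((p - 1).factorial : A) ^ n := by
    intro s
    induction s using Finset.induction with
    | empty =>
      have : M ∅ = Matrix.diagonal fun i => t i ^ (p - 1) := by
        ext i j
        simp [M, Matrix.diagonal_apply]
      rw [this, Matrix.det_diagonal, hdiag]
      simp
    | @insert a s ha ih =>
      have h1 : M (insert a s) = Matrix.updateRow (M s) a ((M s) a + fun j => pd b j (f a)) := by
        ext i j
        rcases eq_or_ne i a with rfl | hia
        · simp [M, ha]
        · simp [M, hia]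
      rw [h1, Matrix.det_updateRow_add, Matrix.updateRow_eq_self, map_add, ih]
      rw [det_gradient (fun j => pd b j) _ a (f a) (fun j => by simp) ?_, map_sum]
      · simp only [map_zsmul, hdiv, smul_zero, sum_const_zero, add_zero]
      · intro i hia j l
        simp only [Matrix.updateRow_ne hia, M, Matrix.of_apply, map_add]
        congr 1
        · split_ifs with h h' h'
          · rw [← h, ← h']
          · subst h
            rw [Derivation.leibniz_pow, pd_self b hb, if_neg h', map_zero]; simp
          · subst h'
            rw [Derivation.leibniz_pow, pd_self b hb, if_neg h, map_zero]; simp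
          · simp
        · split_ifs with h
          · exact pd_comm b hb j l (f i)
          · simp
  intro h0
  have hM : M univ = Matrix.of fun i j : Fin n => (if i = j then t i ^ (p - 1) else 0) + pd b j (f i) := by
    ext i j
    simp [M]
  have := hkey univ
  rw [hM, h0, map_zero] at this
  have hunit : IsUnit (((p - 1).factorial : A) ^ n) := by
    refine IsUnit.pow _ ?_
    rw [CharP.isUnit_natCast_iff (Fact.out : p.Prime)]
    exact fun h => by have := ((Fact.out : p.Prime).dvd_factorial).1 h; have := (Fact.out : p.Prime).pos; omega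
  exact hunit.ne_zero this.symm

end GrothLib.PCurv
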