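import Mathlib.Algebra.MvPolynomial.Derivation
import Mathlib.Algebra.MvPolynomial.Rename
import Mathlib.Algebra.CharP.Lemmas
import Mathlib.Algebra.Algebra.ZMod
import Mathlib.RingTheory.Derivation.Basic
import Mathlib.RingTheory.MvPolynomial.Basic
import Mathlib.Algebra.Algebra.Bilinear
import Mathlib.Tactic.LinearCombination
import Mathlib.Algebra.Field.ZMod
import Mathlib.Data.Nat.Prime.Factorial
import Mathlib.Tactic.Ring

/-!
# Hochschild's formula

In characteristic `p`, if `D` is semilinear over a derivation `θ` then `(f D)^p = f^p D^p + g D`.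
-/

universe u v w

open MvPolynomial

namespace GrothLib.PCurv

variable (p : ℕ) [hp : Fact p.Prime]

noncomputable def dU : Derivation (ZMod p) (MvPolynomial ℕ (ZMod p)) (MvPolynomial ℕ (ZMod p)) :=
  mkDerivation (ZMod p) fun i => X (i + 1)

/-- coefficients of `(f D)^n` in the derivatives of `f` -/
noncomputable def P : ℕ → ℕ → MvPolynomial ℕ (ZMod p)
  | 0, i => if i = 0 then 1 else 0
  | n + 1, 0 => X 0 * dU p (P n 0)
  | n + 1, i + 1 => X 0 * (dU p (P n (i + 1)) + P n i)

theorem P_of_lt : ∀ n i, n < i → P p n i = 0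
  | 0, i, h => if_neg (by omega)
  | n + 1, 0, h => absurd h (by omega)
  | n + 1, i + 1, h => by rw [P, P_of_lt n (i + 1) (by omega), P_of_lt n i (by omega), map_zero, add_zero, mul_zero]

theorem P_self : ∀ n, P p n n = X 0 ^ n
  | 0 => if_pos rfl
  | n + 1 => by rw [P, P_of_lt p n (n + 1) (by omega), P_self n, map_zero, zero_add, pow_succ']

variable {A : Type v} [CommRing A] {B : Type u} [CommRing B] [Algebra A B] [CharP B p]
variable (θ : Derivation A B B) (f : B)

noncomputable def ev : MvPolynomial ℕ (ZMod p) →+* B :=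
  eval₂Hom (ZMod.castHom (dvd_refl p) B) fun i => (⇑θ)^[i] f

theorem ev_X (i : ℕ) : ev p θ f (X i) = (⇑θ)^[i] f := eval₂Hom_X' _ _ _

theorem ev_d (u : MvPolynomial ℕ (ZMod p)) : ev p θ f (dU p u) = θ (ev p θ f u) := by
  induction u using MvPolynomial.induction_on with
  | C a =>
    rw [derivation_C, map_zero, ev, eval₂Hom_C, ← ZMod.natCast_zmod_val a, map_natCast,
      Derivation.map_natCast]
  | add a b ha hb => simp only [map_add, ha, hb]
  | mul_X a i ha =>
    rw [Derivation.leibniz, dU, mkDerivation_X, ← dU, map_mul, Derivation.leibniz, smul_eq_mul, smul_eq_mul,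
      smul_eq_mul, smul_eq_mul, map_add, map_mul, map_mul, ha, ev_X, ev_X, Function.iterate_succ_apply']

section Op

variable {E : Type w} [Ring E] (μ : B →+* E) (D : E) (hD : ∀ b, D * μ b = μ b * D + μ (θ b))
include hD

theorem pow_expand (n : ℕ) :
    (μ f * D) ^ n = ∑ i ∈ Finset.range (n + 1), μ (ev p θ f (P p n i)) * D ^ i := by
  induction n with
  | zero => simp [P]
  | succ n ih =>
    rw [pow_succ', ih, Finset.mul_sum]
    have e : ∀ i, μ f * D * (μ (ev p θ f (P p n i)) * D ^ i) =
        μ (ev p θ f (X 0 * P p n i)) * D ^ (i + 1) + μ (ev p θ f (X 0 * dU p (P p n i))) * D ^ i := by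
      intro i
      rw [mul_assoc, ← mul_assoc D, hD, map_mul, map_mul, map_mul, map_mul, ev_X, ev_d, pow_succ']
      simp [mul_add, add_mul, mul_assoc]
    rw [Finset.sum_congr rfl fun i _ => e i, Finset.sum_add_distrib,
      Finset.sum_range_succ' (fun i => μ (ev p θ f (P p (n + 1) i)) * D ^ i) (n + 1)]
    simp only [P, mul_add, map_add, add_mul, Finset.sum_add_distrib]
    rw [Finset.sum_range_succ (fun i => μ (ev p θ f (X 0 * dU p (P p n (i + 1)))) * D ^ (i + 1)) n,
      P_of_lt p n (n + 1) (by omega), map_zero, mul_zero, map_zero, map_zero, zero_mul, add_zero,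
      Finset.sum_range_succ' (fun i => μ (ev p θ f (X 0 * dU p (P p n i))) * D ^ i) n]
    abel

theorem pow_comm (b : B) : D ^ p * μ b = μ b * D ^ p + μ ((⇑θ)^[p] b) := by
  let L : Module.End ℤ E := LinearMap.mulLeft ℤ D
  let R : Module.End ℤ E := LinearMap.mulRight ℤ D
  have hc : Commute R (L - R) := by
    refine Commute.sub_right ?_ rfl
    exact LinearMap.ext fun x => mul_assoc D x D
  obtain ⟨r, hr⟩ := Commute.exists_add_pow_prime_eq hp.out hc
  rw [add_sub_cancel] at hr
  have hn : ∀ n, ((L - R) ^ n) (μ b) = μ ((⇑θ)^[n] b) := by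
    intro n
    induction n with
    | zero => rfl
    | succ n ih =>
      rw [pow_succ', Module.End.mul_apply, ih, Function.iterate_succ_apply', LinearMap.sub_apply]
      simp [L, R, hD]
  have hp0 : (p : E) = 0 := by rw [← map_natCast μ, CharP.cast_eq_zero, map_zero]
  have := LinearMap.congr_fun hr (μ b)
  simp only [LinearMap.add_apply, Module.End.mul_apply] at this
  rw [hn, LinearMap.pow_mulLeft, LinearMap.pow_mulRight, LinearMap.mulLeft_apply, LinearMap.mulRight_apply] at this
  rw [this, add_eq_left]
  generalize (r (μ b)) = z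
  rw [Module.End.natCast_apply, nsmul_eq_mul, hp0, zero_mul]

end Op

/-- the iterate of a derivation -/
noncomputable def iterPow : Derivation A B B :=
  Derivation.mk' ((θ : B →ₗ[A] B) ^ p) fun a b => by
    have h := pow_comm p θ (Algebra.lmul A B).toRingHom (θ : B →ₗ[A] B)
      (fun c => LinearMap.ext fun x => by
        simp [mul_comm x]) a
    have h' := LinearMap.congr_fun h b
    simp only [AlgHom.toRingHom_eq_coe, RingHom.coe_coe, Module.End.mul_apply, LinearMap.add_apply] at h'
    have e : (θ : B →ₗ[A] B) ^ p = (θ : B →ₗ[A] B) ^ p := rfl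
    simpa [smul_eq_mul, Module.End.pow_apply, mul_comm b] using h'

theorem iterPow_apply (b : B) : iterPow p θ b = (⇑θ)^[p] b := Module.End.pow_apply _ _ _

theorem P_eq_zero {i : ℕ} (h1 : i ≠ 1) (hi : i < p) : P p p i = 0 := by
  let d : Derivation (ZMod p) (MvPolynomial (Option ℕ) (ZMod p)) (MvPolynomial (Option ℕ) (ZMod p)) :=
    mkDerivation (ZMod p) (Option.elim · 1 fun i => X (some (i + 1)))
  let F : Derivation (ZMod p) (MvPolynomial (Option ℕ) (ZMod p)) (MvPolynomial (Option ℕ) (ZMod p)) :=
    (X (some 0) : MvPolynomial (Option ℕ) (ZMod p)) • d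
  let t : MvPolynomial (Option ℕ) (ZMod p) := X none
  have hev : ev p d (X (some 0)) = (rename some).toRingHom := by
    refine MvPolynomial.ringHom_ext (fun a => ?_) fun i => ?_
    · rw [← ZMod.natCast_zmod_val a, map_natCast C, map_natCast, map_natCast]
    · rw [ev_X]
      change _ = rename some (X i)
      rw [rename_X]
      induction i with
      | zero => rfl
      | succ i ih => rw [Function.iterate_succ_apply', ih]; exact mkDerivation_X _ _ _
  have hexp : ∀ x, (⇑F)^[p] x = ∑ j ∈ Finset.range (p + 1), rename some (P p p j) * (⇑d)^[j] x := by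
    intro x
    have h := pow_expand p d (X (some 0)) (Algebra.lmul (ZMod p) (MvPolynomial (Option ℕ) (ZMod p))).toRingHom
      (d : MvPolynomial (Option ℕ) (ZMod p) →ₗ[ZMod p] MvPolynomial (Option ℕ) (ZMod p))
      (fun c => LinearMap.ext fun y => by simp [mul_comm y]) p
    have h' := LinearMap.congr_fun h x
    rw [Module.End.pow_apply, LinearMap.sum_apply] at h'
    refine Eq.trans ?_ (h'.trans (Finset.sum_congr rfl fun j _ => ?_))
    · exact congrFun (congrArg (fun g => g^[p]) (funext fun y => rfl)) x
    · rw [Module.End.mul_apply, Module.End.pow_apply, hev]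
      rfl
  have hE : ∀ j, j < p → (⇑F)^[p] (t ^ j) = (j : MvPolynomial (Option ℕ) (ZMod p)) * t ^ (j - 1) * (⇑F)^[p] t := by
    intro j _
    rw [← iterPow_apply, ← iterPow_apply, Derivation.leibniz_pow, nsmul_eq_mul, smul_eq_mul, mul_assoc]
  have hdt : ∀ k j, (⇑d)^[k] (t ^ j) = (j.descFactorial k : MvPolynomial (Option ℕ) (ZMod p)) * t ^ (j - k) := by
    intro k j
    induction k with
    | zero => simp
    | succ k ih =>
      rw [Function.iterate_succ_apply', ih, Derivation.leibniz, Derivation.leibniz_pow, Derivation.map_natCast,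
        smul_zero, add_zero, show d t = 1 from mkDerivation_X _ _ _, nsmul_eq_mul, smul_eq_mul, smul_eq_mul,
        mul_one, Nat.descFactorial_succ, Nat.cast_mul, Nat.sub_sub]
      ring
  have h1F : (⇑F)^[p] t = rename some (P p p 0) * t + rename some (P p p 1) := by
    rw [hexp, Finset.sum_eq_add_of_mem 0 1 (by simp) (by have := hp.out.two_le; simp; omega) (by omega)]
    · have h11 : d t = 1 := mkDerivation_X _ _ _
      simp [h11]
    · intro j hj hj'
      rw [show t = t ^ 1 from (pow_one t).symm, hdt, Nat.descFactorial_eq_zero_iff_lt.2 (by omega), Nat.cast_zero,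
        zero_mul, mul_zero]
  have h0 : rename some (P p p 0) = (0 : MvPolynomial (Option ℕ) (ZMod p)) := by
    have := hE 0 hp.out.pos
    rw [hexp, Finset.sum_eq_single 0 (fun j _ hj => by
      rw [hdt, Nat.descFactorial_eq_zero_iff_lt.2 (by omega), Nat.cast_zero, zero_mul, mul_zero])
      (by simp)] at this
    simpa using this
  refine rename_injective some (Option.some_injective _) ?_
  rw [map_zero]
  induction i using Nat.strong_induction_on with
  | _ i IH =>
    rcases Nat.eq_zero_or_pos i with rfl | hpos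
    · exact h0
    have := hE i hi
    rw [h1F, h0, zero_mul, zero_add, hexp, Finset.sum_eq_add_of_mem 1 i (by have := hp.out.two_le; simp; omega)
      (by simp; omega) (Ne.symm h1)] at this
    · rw [hdt, hdt, Nat.descFactorial_one, Nat.descFactorial_self, Nat.sub_self, pow_zero, mul_one] at this
      have h2 : rename some (P p p i) * (i.factorial : MvPolynomial (Option ℕ) (ZMod p)) = 0 := by
        linear_combination this
      refine (mul_eq_zero.1 h2).resolve_right fun hf => ?_
      rw [CharP.cast_eq_zero_iff (MvPolynomial (Option ℕ) (ZMod p)) p, Nat.Prime.dvd_factorial hp.out] at hf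
      omega
    · intro j hj hj'
      rcases Nat.lt_or_ge i j with hij | hij
      · rw [hdt, Nat.descFactorial_eq_zero_iff_lt.2 hij, Nat.cast_zero, zero_mul, mul_zero]
      · rw [IH j (lt_of_le_of_ne hij hj'.2) hj'.1 (by omega), zero_mul]

/-- Hochschild's formula. -/
theorem pow_prime {E : Type w} [Ring E] (μ : B →+* E) (D : E) (hD : ∀ b, D * μ b = μ b * D + μ (θ b)) :
    (μ f * D) ^ p = μ (f ^ p) * D ^ p + μ (ev p θ f (P p p 1)) * D := by
  rw [pow_expand p θ f μ D hD, Finset.sum_range_succ, Finset.sum_eq_single 1 (fun j hj hj' => by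
    rw [P_eq_zero p hj' (Finset.mem_range.1 hj), map_zero, map_zero, zero_mul])
    (fun h => absurd (Finset.mem_range.2 hp.out.one_lt) h), P_self, map_pow, ev_X, pow_one, add_comm]
  rfl

end GrothLib.PCurv
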