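import Groth.Prelude.Def_Conn
import Groth.Agent.Lib.PCurv.Hochschild

/-!
# Covariant derivatives, and the `p`-curvature when the differentials have rank one
-/

universe u v

open TensorProduct

namespace GrothLib.PCurv

variable {A : Type v} {B M : Type u} [CommRing A] [CommRing B] [Algebra A B]
  [AddCommGroup M] [Module B M] [Module A M] [IsScalarTower A B M]
  {nabla : M →ₗ[A] M ⊗[B] KaehlerDifferential A B}

theorem alongDer_smul (hc : Conn.IsConn (KaehlerDifferential.D A B) nabla) (θ : Derivation A B B) (b : B) (m : M) :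
    Conn.alongDer nabla θ (b • m) = b • Conn.alongDer nabla θ m + θ b • m := by
  simp only [Conn.alongDer, Conn.along_apply, hc b m, map_add, map_smul, TensorProduct.map_tmul,
    TensorProduct.rid_tmul, LinearMap.id_apply, Derivation.liftKaehlerDifferential_comp_D]

variable (bΩ : Module.Basis (Fin 1) B (KaehlerDifferential A B)) {θ₀ : Derivation A B B}

theorem lift_eq_smul (h₀ : θ₀.liftKaehlerDifferential (bΩ 0) = 1) (θ : Derivation A B B) :
    θ.liftKaehlerDifferential = θ.liftKaehlerDifferential (bΩ 0) • θ₀.liftKaehlerDifferential := by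
  refine bΩ.ext fun i => ?_
  rw [Fin.eq_zero i, LinearMap.smul_apply, h₀, smul_eq_mul, mul_one]

theorem der_eq_smul (h₀ : θ₀.liftKaehlerDifferential (bΩ 0) = 1) (θ : Derivation A B B) (b : B) :
    θ b = θ.liftKaehlerDifferential (bΩ 0) * θ₀ b := by
  rw [← Derivation.liftKaehlerDifferential_comp_D θ b, lift_eq_smul bΩ h₀ θ, LinearMap.smul_apply,
    Derivation.liftKaehlerDifferential_comp_D, smul_eq_mul]
  rw [← lift_eq_smul bΩ h₀ θ]

theorem alongDer_eq_smul (h₀ : θ₀.liftKaehlerDifferential (bΩ 0) = 1) (θ : Derivation A B B) (m : M) :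
    Conn.alongDer nabla θ m = θ.liftKaehlerDifferential (bΩ 0) • Conn.alongDer nabla θ₀ m := by
  simp only [Conn.alongDer, Conn.along_apply]
  rw [lift_eq_smul bΩ h₀ θ, TensorProduct.map_smul_right, LinearMap.smul_apply, map_smul,
    ← lift_eq_smul bΩ h₀ θ]

variable (p : ℕ) [hp : Fact p.Prime] [CharP B p]

theorem pCurv_eq_zero (h₀ : θ₀.liftKaehlerDifferential (bΩ 0) = 1)
    (hc : Conn.IsConn (KaehlerDifferential.D A B) nabla) (h : Conn.pCurv p nabla θ₀ (iterPow p θ₀) = 0)
    (θ θp : Derivation A B B) (hθp : Conn.IsIterPow θ p θp) : Conn.pCurv p nabla θ θp = 0 := by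
  set f := θ.liftKaehlerDifferential (bΩ 0) with hf
  set c := (iterPow p θ₀).liftKaehlerDifferential (bΩ 0) with hc'
  set g := ev p θ₀ f (P p p 1) with hg
  let μ : B →+* Module.End A M := (Algebra.lsmul A A M : B →ₐ[A] Module.End A M).toRingHom
  set D : Module.End A M := Conn.alongDer nabla θ₀ with hD'
  have hD : ∀ b, D * μ b = μ b * D + μ (θ₀ b) := fun b => LinearMap.ext fun m => alongDer_smul hc θ₀ b m
  have hθ : Conn.alongDer nabla θ = μ f * D := LinearMap.ext fun m => alongDer_eq_smul bΩ h₀ θ m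
  have hDp : D ^ p = μ c * D := by
    rw [Conn.pCurv, sub_eq_zero] at h
    exact h.trans (LinearMap.ext fun m => alongDer_eq_smul bΩ h₀ _ m)
  have hθp' : θp.liftKaehlerDifferential (bΩ 0) = f ^ p * c + g := by
    have hB := pow_prime p θ₀ f (Algebra.lmul A B).toRingHom (θ₀ : B →ₗ[A] B)
      (fun b => LinearMap.ext fun x => by simp [mul_comm x])
    have hkey : ∀ b, θp b = (f ^ p * c + g) * θ₀ b := by
      intro b
      have h2 := LinearMap.congr_fun hB b
      rw [LinearMap.add_apply, Module.End.mul_apply, Module.End.mul_apply, Module.End.pow_apply,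
        Module.End.pow_apply] at h2
      rw [hθp b, show (⇑θ : B → B) = fun y => f * θ₀ y from funext fun y => der_eq_smul bΩ h₀ θ y, add_mul, mul_assoc,
        ← der_eq_smul bΩ h₀ (iterPow p θ₀) b, iterPow_apply]
      refine Eq.trans ?_ (h2.trans ?_)
      · exact congrFun (congrArg (fun g => g^[p]) (funext fun y => rfl)) b
      · rfl
    have heq : θp = (f ^ p * c + g) • θ₀ := Derivation.ext fun b => hkey b
    have : θp.liftKaehlerDifferential = (f ^ p * c + g) • θ₀.liftKaehlerDifferential := by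
      refine Derivation.liftKaehlerDifferential_unique _ _ (Derivation.ext fun b => ?_)
      simp [hkey b]
    rw [this, LinearMap.smul_apply, h₀, smul_eq_mul, mul_one]
  rw [Conn.pCurv, sub_eq_zero, hθ, pow_prime p θ₀ f μ D hD, hDp, ← mul_assoc, ← map_mul, ← add_mul, ← map_add]
  refine LinearMap.ext fun m => ?_
  rw [alongDer_eq_smul bΩ h₀ θp m, hθp']
  rfl

end GrothLib.PCurv
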